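import Cfsg.Agent.FT.PF01
import Cfsg.Agent.FT.PFDefs2
import Cfsg.Agent.FT.P.AppC

/-! Section AppC: the proofs are in the imported files. -/
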