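import Cfsg.Agent.FT.BG14
import Cfsg.Agent.FT.P.BG15b

/-! Section BG15: the proofs are in the imported files. -/
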