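import Cfsg.Agent.FT.P.PF01

/-! Peterfalvi section 1: proved in `FT/P/PF01a`, `FT/P/PF01b`, `FT/P/PF01`. -/
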